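import Groth.Agent.AlgSp.K602.QC

/-!
# Relative Spec of a quasi-coherent algebra given on charts (algebraic spaces)
-/

set_option autoImplicit false
universe u

open CategoryTheory CategoryTheory.Limits AlgebraicGeometry Opposite AlgSp

namespace K594.RelSpec

open K602 K602.Ch

variable {S : Scheme.{u}}

/-- A quasi-coherent algebra on the charts of `T`. -/
structure QAlg (T : Sp S) where
  A : Ch T → CommRingCat.{u}
  η : ∀ a, O a ⟶ A a
  r : ∀ {a b : Ch T}, (a ⟶ b) → (A b ⟶ A a)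
  r_id : ∀ a, r (𝟙 a) = 𝟙 _
  r_comp : ∀ {a b c : Ch T} (f : a ⟶ b) (g : b ⟶ c), r (f ≫ g) = r g ≫ r f
  η_r : ∀ {a b : Ch T} (g : a ⟶ b), η b ≫ r g = ores g ≫ η a
  isPushout : ∀ {a b : Ch T} (g : a ⟶ b), IsAffine a.V.left → IsAffine b.V.left → (ores g).hom.Flat →
    IsPushout (ores g) (η b) (η a) (r g)

variable {T : Sp S} (F : QAlg T) (p : Ch T) [IsAffine p.V.left]

noncomputable def νl : Spec (F.A p) ⟶ p.V.left := Spec.map (F.η p) ≫ p.V.left.isoSpec.inv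

/-- `Spec` of the algebra over an affine chart. -/
noncomputable def Z : Over S := Over.mk (νl F p ≫ p.V.hom)

noncomputable def ν : Z F p ⟶ p.V := Over.homMk (νl F p)

theorem toSpec_νl {V : Scheme.{u}} (e : V ⟶ p.V.left) (ρ : F.A p ⟶ Γ(V, ⊤)) (h : F.η p ≫ ρ = e.appTop) :
    (V.toSpecΓ ≫ Spec.map ρ) ≫ νl F p = e := by
  rw [νl, Category.assoc, ← Spec.map_comp_assoc, h, ← Scheme.toSpecΓ_naturality_assoc]
  have : p.V.left.toSpecΓ = p.V.left.isoSpec.hom := rfl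
  rw [this, Iso.hom_inv_id, Category.comp_id]

/-- The point of `Z` given by a ring map. -/
noncomputable def zmk {V : Over S} (e : V ⟶ p.V) (ρ : F.A p ⟶ Γ(V.left, ⊤)) (h : F.η p ≫ ρ = e.left.appTop) :
    V ⟶ Z F p :=
  Over.homMk (V.left.toSpecΓ ≫ Spec.map ρ) (by
    change (V.left.toSpecΓ ≫ Spec.map ρ) ≫ νl F p ≫ p.V.hom = V.hom
    rw [← Category.assoc, toSpec_νl F p e.left ρ h, Over.w])

theorem zmk_ν {V : Over S} (e : V ⟶ p.V) (ρ : F.A p ⟶ Γ(V.left, ⊤)) (h : F.η p ≫ ρ = e.left.appTop) :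
    zmk F p e ρ h ≫ ν F p = e := by
  ext1
  exact toSpec_νl F p e.left ρ h

/-- Evaluation of the elements of the algebra at a point. -/
noncomputable def ev {V : Over S} (a : V ⟶ Z F p) : F.A p ⟶ Γ(V.left, ⊤) :=
  SpecC.evs (R := F.A p) (V := V.left) a.left

theorem ev_comp {V V' : Over S} (g : V' ⟶ V) (a : V ⟶ Z F p) : ev F p (g ≫ a) = ev F p a ≫ g.left.appTop :=
  SpecC.evs_comp (R := F.A p) g.left a.left

theorem ev_zmk {V : Over S} (e : V ⟶ p.V) (ρ : F.A p ⟶ Γ(V.left, ⊤)) (h : F.η p ≫ ρ = e.left.appTop) :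
    ev F p (zmk F p e ρ h) = ρ := SpecC.evs_mk ρ

theorem η_ev {V : Over S} (a : V ⟶ Z F p) : F.η p ≫ ev F p a = (a ≫ ν F p).left.appTop := by
  refine (SpecC.comp_evs (R := F.A p) (V := V.left) (F.η p) a.left).trans
    ((SpecC.evs_isoSpec (E := p.V.left) _).trans ?_)
  congr 1

theorem hom_ext_Z {V : Over S} {a b : V ⟶ Z F p} (h : ev F p a = ev F p b) : a = b := by
  ext1
  exact SpecC.evs_injective h

/-- The point of `Z` given by a ring map. -/
theorem exists_mk {V : Over S} (e : V ⟶ p.V) (ρ : F.A p ⟶ Γ(V.left, ⊤)) (h : F.η p ≫ ρ = e.left.appTop) :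
    ∃ z : V ⟶ Z F p, z ≫ ν F p = e ∧ z.left = V.left.toSpecΓ ≫ Spec.map ρ :=
  ⟨zmk F p e ρ h, zmk_ν F p e ρ h, rfl⟩

section dsc

variable {p} {q : Ch T} [IsAffine q.V.left] (κ : q ⟶ p) (hκ : (ores κ).hom.Flat) {V : Over S}
  (c : V ⟶ q.V) (n : V ⟶ Z F p) (h : n ≫ ν F p = c ≫ κ.g)

/-- Evaluation of the elements of the algebra of a chart `q` over `p` at a point of `q` and a point of `Z`. -/
noncomputable def dsc : F.A q ⟶ Γ(V.left, ⊤) :=
  (F.isPushout κ ‹_› ‹_› hκ).desc c.left.appTop (ev F p n) (by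
    rw [η_ev, h, Over.comp_left, Scheme.Hom.comp_appTop]
    rfl)

theorem η_dsc : F.η q ≫ dsc F κ hκ c n h = c.left.appTop := (F.isPushout κ ‹_› ‹_› hκ).inl_desc _ _ _

theorem r_dsc : F.r κ ≫ dsc F κ hκ c n h = ev F p n := (F.isPushout κ ‹_› ‹_› hκ).inr_desc _ _ _

theorem dsc_unique (d : F.A q ⟶ Γ(V.left, ⊤)) (h1 : F.η q ≫ d = c.left.appTop) (h2 : F.r κ ≫ d = ev F p n) :
    d = dsc F κ hκ c n h := by
  refine (F.isPushout κ ‹_› ‹_› hκ).hom_ext ?_ ?_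
  · rw [h1, η_dsc]
  · rw [h2, r_dsc]

theorem dsc_nat {V' : Over S} (g : V' ⟶ V) (h' : (g ≫ n) ≫ ν F p = (g ≫ c) ≫ κ.g) :
    dsc F κ hκ (g ≫ c) (g ≫ n) h' = dsc F κ hκ c n h ≫ g.left.appTop := by
  refine (dsc_unique F κ hκ _ _ _ _ ?_ ?_).symm
  · rw [← Category.assoc, η_dsc, Over.comp_left, Scheme.Hom.comp_appTop]
  · rw [← Category.assoc, r_dsc, ev_comp]

/-- Functoriality in the chart. -/
theorem r_dsc_map {q' : Ch T} [IsAffine q'.V.left] (α : q' ⟶ q) (κ' : q' ⟶ p) (hκ' : (ores κ').hom.Flat)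
    (e : α ≫ κ = κ') (c' : V ⟶ q'.V) (hc : c' ≫ α.g = c) (h' : n ≫ ν F p = c' ≫ κ'.g) :
    F.r α ≫ dsc F κ' hκ' c' n h' = dsc F κ hκ c n h := by
  apply dsc_unique
  · rw [← Category.assoc, F.η_r, Category.assoc, η_dsc, ← hc, Over.comp_left, Scheme.Hom.comp_appTop]
    rfl
  · rw [← Category.assoc, ← F.r_comp, e, r_dsc]

end dsc

section tr

variable {p} {p2 : Ch T} [IsAffine p2.V.left] (κs κt : p2 ⟶ p)
  (sq : IsPullback ((yon S).map κs.g) ((yon S).map κt.g) p.v p.v)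

section rl

variable {κs κt} {V : Over S} (e u : V ⟶ p.V)
include sq

omit [IsAffine p.V.left] [IsAffine p2.V.left] in
theorem exists_rl (h : (yon S).map e ≫ p.v = (yon S).map u ≫ p.v) :
    ∃ c : V ⟶ p2.V, c ≫ κs.g = e ∧ c ≫ κt.g = u := by
  obtain ⟨c, hc⟩ := (yon S).map_surjective (sq.lift _ _ h)
  refine ⟨c, ?_, ?_⟩
  · apply (yon S).map_injective
    rw [(yon S).map_comp, hc, sq.lift_fst]
  · apply (yon S).map_injective
    rw [(yon S).map_comp, hc, sq.lift_snd]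

/-- The point of the fibre product. -/
noncomputable def rl (h : (yon S).map e ≫ p.v = (yon S).map u ≫ p.v) : V ⟶ p2.V :=
  (exists_rl sq e u h).choose

omit [IsAffine p.V.left] [IsAffine p2.V.left] in
theorem rl_s (h : (yon S).map e ≫ p.v = (yon S).map u ≫ p.v) : rl sq e u h ≫ κs.g = e :=
  (exists_rl sq e u h).choose_spec.1

omit [IsAffine p.V.left] [IsAffine p2.V.left] in
theorem rl_t (h : (yon S).map e ≫ p.v = (yon S).map u ≫ p.v) : rl sq e u h ≫ κt.g = u :=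
  (exists_rl sq e u h).choose_spec.2

omit [IsAffine p.V.left] [IsAffine p2.V.left] in
theorem R_ext {a b : V ⟶ p2.V} (h1 : a ≫ κs.g = b ≫ κs.g) (h2 : a ≫ κt.g = b ≫ κt.g) : a = b := by
  apply (yon S).map_injective
  apply sq.hom_ext
  · rw [← (yon S).map_comp, ← (yon S).map_comp, h1]
  · rw [← (yon S).map_comp, ← (yon S).map_comp, h2]

end rl

variable (hs : (ores κs).hom.Flat)

section

variable {V : Over S}

/-- Transport of points of `Z`. -/
noncomputable def tr (n : V ⟶ Z F p) (u : V ⟶ p.V)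
    (h : (yon S).map (n ≫ ν F p) ≫ p.v = (yon S).map u ≫ p.v) : V ⟶ Z F p :=
  zmk F p u (F.r κt ≫ dsc F κs hs (rl sq _ _ h) n (rl_s sq _ _ h).symm) (by
    rw [← Category.assoc, F.η_r, Category.assoc, η_dsc]
    refine Eq.trans ?_ (congrArg (fun k : V ⟶ p.V => k.left.appTop) (rl_t sq _ _ h))
    change _ = (rl sq _ _ h ≫ κt.g).left.appTop
    rw [Over.comp_left, Scheme.Hom.comp_appTop]
    rfl)

theorem tr_ν (n : V ⟶ Z F p) (u : V ⟶ p.V) (h : (yon S).map (n ≫ ν F p) ≫ p.v = (yon S).map u ≫ p.v) :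
    tr F κs κt sq hs n u h ≫ ν F p = u := zmk_ν _ _ _ _ _

theorem ev_tr (n : V ⟶ Z F p) (u : V ⟶ p.V) (h : (yon S).map (n ≫ ν F p) ≫ p.v = (yon S).map u ≫ p.v)
    (c : V ⟶ p2.V) (hc : n ≫ ν F p = c ≫ κs.g) (hc' : c ≫ κt.g = u) :
    ev F p (tr F κs κt sq hs n u h) = F.r κt ≫ dsc F κs hs c n hc := by
  have : c = rl sq _ _ h := by
    apply R_ext sq
    · rw [← hc, rl_s]
    · rw [hc', rl_t]
  subst this
  exact ev_zmk _ _ _ _ _

theorem tr_congr {n n' : V ⟶ Z F p} (hn : n = n') {u u' : V ⟶ p.V} (hu : u = u')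
    (h : (yon S).map (n ≫ ν F p) ≫ p.v = (yon S).map u ≫ p.v)
    (h' : (yon S).map (n' ≫ ν F p) ≫ p.v = (yon S).map u' ≫ p.v) :
    tr F κs κt sq hs n u h = tr F κs κt sq hs n' u' h' := by
  subst hn; subst hu; rfl

theorem tr_nat {V' : Over S} (g : V' ⟶ V) (n : V ⟶ Z F p) (u : V ⟶ p.V)
    (h : (yon S).map (n ≫ ν F p) ≫ p.v = (yon S).map u ≫ p.v)
    (h' : (yon S).map ((g ≫ n) ≫ ν F p) ≫ p.v = (yon S).map (g ≫ u) ≫ p.v) :
    tr F κs κt sq hs (g ≫ n) (g ≫ u) h' = g ≫ tr F κs κt sq hs n u h := by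
  have e1 : n ≫ ν F p = rl sq _ _ h ≫ κs.g := (rl_s sq _ _ h).symm
  apply hom_ext_Z
  rw [ev_comp, ev_tr F κs κt sq hs n u h _ e1 (rl_t sq _ _ h),
    ev_tr F κs κt sq hs (g ≫ n) (g ≫ u) h' (g ≫ rl sq _ _ h) (by rw [Category.assoc, Category.assoc, rl_s])
      (by rw [Category.assoc, rl_t]), dsc_nat F κs hs (rl sq _ _ h) n e1, Category.assoc]

theorem tr_self (n : V ⟶ Z F p) (h : (yon S).map (n ≫ ν F p) ≫ p.v = (yon S).map (n ≫ ν F p) ≫ p.v) :
    tr F κs κt sq hs n (n ≫ ν F p) h = n := by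
  obtain ⟨d, hd1, hd2⟩ := exists_rl sq (𝟙 p.V) (𝟙 p.V) rfl
  let δ : p ⟶ p2 := ⟨d, by rw [← κs.w, ← Category.assoc, ← (yon S).map_comp, hd1, (yon S).map_id, Category.id_comp]⟩
  have e1 : δ ≫ κs = 𝟙 p := Ch.hom_ext hd1
  have e2 : δ ≫ κt = 𝟙 p := Ch.hom_ext hd2
  have hfl : (ores (𝟙 p)).hom.Flat := by
    rw [ores_id]
    exact RingHom.Flat.id _
  apply hom_ext_Z
  have h1 : n ≫ ν F p = ((n ≫ ν F p) ≫ d) ≫ κs.g := by rw [Category.assoc, hd1, Category.comp_id]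
  have h2 : n ≫ ν F p = (n ≫ ν F p) ≫ Hom.g (𝟙 p) := by rw [id_g, Category.comp_id]
  rw [ev_tr F κs κt sq hs n _ h ((n ≫ ν F p) ≫ d) h1 (by rw [Category.assoc, hd2, Category.comp_id]),
    ← r_dsc_map F κs hs _ n h1 δ (𝟙 p) hfl e1 (n ≫ ν F p) rfl h2, ← Category.assoc, ← F.r_comp, e2, r_dsc]

theorem tr_tr (n : V ⟶ Z F p) (u u' : V ⟶ p.V) (h : (yon S).map (n ≫ ν F p) ≫ p.v = (yon S).map u ≫ p.v)
    (h' : (yon S).map (tr F κs κt sq hs n u h ≫ ν F p) ≫ p.v = (yon S).map u' ≫ p.v)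
    (h'' : (yon S).map (n ≫ ν F p) ≫ p.v = (yon S).map u' ≫ p.v) (hfl : Flat κs.g.left) :
    tr F κs κt sq hs (tr F κs κt sq hs n u h) u' h' = tr F κs κt sq hs n u' h'' := by
  let p3 : Ch T := p2.pre (pullback.fst κt.g κs.g)
  have sq3 : IsPullback (pullback.fst κt.g κs.g).left (pullback.snd κt.g κs.g).left κt.g.left κs.g.left :=
    (IsPullback.of_hasPullback κt.g κs.g).map (Over.forget S)
  have haff : IsAffine p3.V.left := .of_isPullback sq3
  have hf1 : Flat (pullback.fst κt.g κs.g).left :=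
    MorphismProperty.of_isPullback (P := @Flat) sq3.flip hfl
  let π01 : p3 ⟶ p2 := p2.preHom (pullback.fst κt.g κs.g)
  let π12 : p3 ⟶ p2 := ⟨pullback.snd κt.g κs.g, by
    change _ = (yon S).map (pullback.fst κt.g κs.g) ≫ p2.v
    rw [← κs.w, ← Category.assoc, ← (yon S).map_comp, ← pullback.condition, (yon S).map_comp, Category.assoc,
      κs.w, κt.w]⟩
  have e01 : π01 ≫ κt = π12 ≫ κs := Ch.hom_ext pullback.condition
  obtain ⟨d, hd1, hd2⟩ := exists_rl sq (π01 ≫ κs).g (π12 ≫ κt).g (by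
    rw [(π01 ≫ κs).w, (π12 ≫ κt).w])
  let π02 : p3 ⟶ p2 := ⟨d, by rw [← κs.w, ← Category.assoc, ← (yon S).map_comp, hd1, (π01 ≫ κs).w]⟩
  have e02 : π02 ≫ κs = π01 ≫ κs := Ch.hom_ext hd1
  have e12 : π02 ≫ κt = π12 ≫ κt := Ch.hom_ext hd2
  obtain ⟨κ, hκ⟩ : ∃ κ, κ = π01 ≫ κs := ⟨_, rfl⟩
  have hflκ : (ores κ).hom.Flat := by
    have : Flat κ.g.left := by
      rw [hκ]
      change Flat ((pullback.fst κt.g κs.g).left ≫ κs.g.left)
      infer_instance
    exact κ.g.left.flat_appTop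
  have huu' : (yon S).map u ≫ p.v = (yon S).map u' ≫ p.v := by rw [← h, h'']
  obtain ⟨c, hc1, hc2⟩ : ∃ c : V ⟶ p3.V, c ≫ π01.g = rl sq _ _ h ∧ c ≫ π12.g = rl sq _ _ huu' :=
    ⟨pullback.lift (rl sq _ _ h) (rl sq _ _ huu') (by rw [rl_t, rl_s]), pullback.lift_fst _ _ _,
      pullback.lift_snd _ _ _⟩
  have e1 : n ≫ ν F p = rl sq _ _ h ≫ κs.g := (rl_s sq _ _ h).symm
  have hcκ : n ≫ ν F p = c ≫ κ.g := by
    rw [e1, hκ, comp_g, ← Category.assoc, hc1]
  -- the three faces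
  have f01 : F.r π01 ≫ dsc F κ hflκ c n hcκ = dsc F κs hs (rl sq _ _ h) n e1 :=
    r_dsc_map F κs hs _ n e1 π01 κ hflκ hκ.symm c hc1 hcκ
  have hc02 : n ≫ ν F p = (c ≫ d) ≫ κs.g := by
    rw [Category.assoc, hd1, ← hκ, hcκ]
  have f02 : F.r π02 ≫ dsc F κ hflκ c n hcκ = dsc F κs hs (c ≫ d) n hc02 :=
    r_dsc_map F κs hs _ n hc02 π02 κ hflκ (by rw [e02, hκ]) c rfl hcκ
  have hc12 : tr F κs κt sq hs n u h ≫ ν F p = rl sq _ _ huu' ≫ κs.g := by rw [tr_ν, rl_s]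
  have f12 : F.r π12 ≫ dsc F κ hflκ c n hcκ =
      dsc F κs hs (rl sq _ _ huu') (tr F κs κt sq hs n u h) hc12 := by
    apply dsc_unique
    · rw [← Category.assoc, F.η_r, Category.assoc, η_dsc, ← hc2, Over.comp_left, Scheme.Hom.comp_appTop]
      rfl
    · rw [← Category.assoc, ← F.r_comp, ← e01, F.r_comp, Category.assoc, f01,
        ev_tr F κs κt sq hs n u h _ e1 (rl_t sq _ _ h)]
  apply hom_ext_Z
  rw [ev_tr F κs κt sq hs _ u' h' _ hc12 (rl_t sq _ _ huu'), ← f12, ← Category.assoc, ← F.r_comp, ← e12,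
    F.r_comp, Category.assoc, f02,
    ev_tr F κs κt sq hs n u' h'' _ hc02 (by
      rw [Category.assoc, hd2, comp_g, ← Category.assoc, hc2, rl_t])]

end

section dd

omit [IsAffine p2.V.left]

omit [IsAffine p.V.left] in
theorem pre_eq {V V' Z' : Over S} (g : V' ⟶ V) {n : V ⟶ Z'} {ν' : Z' ⟶ p.V} {b : V ⟶ p.V}
    (h : (yon S).map (n ≫ ν') ≫ p.v = (yon S).map b ≫ p.v) :
    (yon S).map ((g ≫ n) ≫ ν') ≫ p.v = (yon S).map (g ≫ b) ≫ p.v := by
  rw [Category.assoc, (yon S).map_comp, Category.assoc, h, (yon S).map_comp, Category.assoc]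

theorem ddcond {V : Over S} {n : (yon S).obj V ⟶ (yon S).obj (Z F p)} {u : (yon S).obj V ⟶ (yon S).obj p.V}
    (h : n ≫ (yon S).map (ν F p) ≫ p.v = u ≫ p.v) :
    (yon S).map ((yon S).preimage n ≫ ν F p) ≫ p.v = (yon S).map ((yon S).preimage u) ≫ p.v := by
  rw [(yon S).map_comp, (yon S).map_preimage, (yon S).map_preimage, Category.assoc, h]

end dd

/-- The descent datum. -/
noncomputable def dd (hfl : Flat κs.g.left) :
    K615.Glue.DD (X := T) (ι := PUnit.{u + 2}) (fun _ => (yon S).obj p.V) (fun _ => p.v)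
    (fun _ => (yon S).obj (Z F p)) (fun _ => (yon S).map (ν F p)) where
  tr {V} _ _ n u h := (yon S).map (tr F κs κt sq hs ((yon S).preimage n) ((yon S).preimage u) (ddcond F h))
  tr_ν {V} _ _ n u h := by rw [← (yon S).map_comp, tr_ν, (yon S).map_preimage]
  tr_nat {V V'} g _ _ n u h h' := by
    rw [← (yon S).map_comp]
    congr 1
    have e1 : (yon S).preimage ((yon S).map g ≫ n) = g ≫ (yon S).preimage n := by
      apply (yon S).map_injective
      rw [(yon S).map_preimage, (yon S).map_comp, (yon S).map_preimage]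
    have e2 : (yon S).preimage ((yon S).map g ≫ u) = g ≫ (yon S).preimage u := by
      apply (yon S).map_injective
      rw [(yon S).map_preimage, (yon S).map_comp, (yon S).map_preimage]
    rw [← tr_nat F κs κt sq hs g _ _ _ (pre_eq g (ddcond F h))]
    exact tr_congr F κs κt sq hs e1 e2 _ _
  tr_self {V} _ n u h hn := by
    have e : (yon S).preimage u = (yon S).preimage n ≫ ν F p := by
      apply (yon S).map_injective
      rw [(yon S).map_preimage, (yon S).map_comp, (yon S).map_preimage, hn]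
    rw [tr_congr F κs κt sq hs rfl e _ rfl, tr_self, (yon S).map_preimage]
  tr_tr {V} _ _ _ n u u' h h' h'' := by
    congr 1
    have e : (yon S).preimage ((yon S).map (tr F κs κt sq hs ((yon S).preimage n) ((yon S).preimage u) (ddcond F h))) =
      tr F κs κt sq hs ((yon S).preimage n) ((yon S).preimage u) (ddcond F h) := (yon S).preimage_map _
    rw [tr_congr F κs κt sq hs e rfl (ddcond F h') (by
      rw [tr_ν, ← ddcond F h, ddcond F h'']), tr_tr _ _ _ _ _ _ _ _ _ _ _ hfl]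

end tr

theorem exists_relSpec (hp1 : RepWith @Etale p.v) (hp2 : RepWith @Surjective p.v) {p2 : Ch T} [IsAffine p2.V.left]
    (κs κt : p2 ⟶ p) (sq : IsPullback ((yon S).map κs.g) ((yon S).map κt.g) p.v p.v) :
    ∃ (Y : Sp S) (f : Y ⟶ T) (m : (yon S).obj (Z F p) ⟶ Y), IsPullback m ((yon S).map (ν F p)) f p.v ∧
      ∀ {G : Sp S} {h : G ⟶ T} (hh : RepWith @IsAffineHom h) (αp : F.A p ⟶ B hh p) (α2 : F.A p2 ⟶ B hh p2),
        F.η p ≫ αp = β hh p → F.η p2 ≫ α2 = β hh p2 → F.r κs ≫ α2 = αp ≫ res hh κs →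
        F.r κt ≫ α2 = αp ≫ res hh κt →
        ∃ (l : G ⟶ Y) (z : W hh p ⟶ Z F p), l ≫ f = h ∧ z ≫ ν F p = π hh p ∧
          z.left = (W hh p).left.toSpecΓ ≫ Spec.map αp ∧ IsPullback (ι hh p) ((yon S).map z) l m := by
  have het : Etale κs.g.left := hp1.2 _ _ _ sq.flip
  have hfl : Flat κs.g.left := inferInstance
  have hs : (ores κs).hom.Flat := κs.g.left.flat_appTop
  let D := dd F κs κt sq hs hfl
  refine ⟨K615.Glue.glued D, K615.Glue.π D, K615.Glue.m D ⟨⟩, K615.Glue.isPullback (D := D) ⟨⟩, ?_⟩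
  intro G h hh αp α2 hαp hα2 hκs hκt
  let z : W hh p ⟶ Z F p := zmk F p (π hh p) αp hαp
  have hzν : z ≫ ν F p = π hh p := zmk_ν _ _ _ _ _
  have hevz : ev F p z = αp := ev_zmk _ _ _ _ _
  have hj : K615.Pt.JSurj (fun _ : PUnit.{1} => (yon S).obj (W hh p)) (fun _ => ι hh p) :=
    (Trans.jsurj_of_etale p.v hp1 hp2).of_isPullback h _ _ (fun _ => (yon S).map (π hh p)) (fun _ => Ch.sq hh p)
  have key : ∀ (V : Over S) (y y' : V ⟶ W hh p), (yon S).map y ≫ ι hh p = (yon S).map y' ≫ ι hh p →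
      (yon S).map (y ≫ z) ≫ K615.Glue.m D ⟨⟩ = (yon S).map (y' ≫ z) ≫ K615.Glue.m D ⟨⟩ := by
    intro V y y' hyy
    have hc : (yon S).map (y ≫ π hh p) ≫ p.v = (yon S).map (y' ≫ π hh p) ≫ p.v := by
      rw [(yon S).map_comp, (yon S).map_comp, Category.assoc, Category.assoc, ← (Ch.sq hh p).w,
        ← Category.assoc, hyy, Category.assoc]
    obtain ⟨c, hc1, hc2⟩ := exists_rl sq _ _ hc
    -- the point of the base change of `G` to `p2`
    let w : V ⟶ W hh p2 := hh.1.lift ((yon S).map y ≫ ι hh p) c (by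
      rw [Category.assoc, (Ch.sq hh p).w, ← κs.w, ← Category.assoc, ← Category.assoc, ← (yon S).map_comp,
        ← (yon S).map_comp, hc1])
    have hw1 : (yon S).map w ≫ ι hh p2 = (yon S).map y ≫ ι hh p := hh.1.lift_fst _ _ _
    have hw2 : w ≫ π hh p2 = c := hh.1.lift_snd _ _ _
    have hw3 : w ≫ Wmap hh κs = y := by
      apply W_ext
      · rw [(yon S).map_comp, Category.assoc, Wmap_ι, hw1]
      · rw [Category.assoc, Wmap_π, ← Category.assoc, hw2, hc1]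
    have hw4 : w ≫ Wmap hh κt = y' := by
      apply W_ext
      · rw [(yon S).map_comp, Category.assoc, Wmap_ι, hw1, hyy]
      · rw [Category.assoc, Wmap_π, ← Category.assoc, hw2, hc2]
    have hn : (yon S).map ((y ≫ z) ≫ ν F p) ≫ p.v = (yon S).map (y' ≫ π hh p) ≫ p.v := by
      rw [Category.assoc, hzν, hc]
    have hcc : (y ≫ z) ≫ ν F p = c ≫ κs.g := by rw [Category.assoc, hzν, hc1]
    have hd : dsc F κs hs c (y ≫ z) hcc = α2 ≫ w.left.appTop := by
      refine (dsc_unique F κs hs c (y ≫ z) hcc _ ?_ ?_).symm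
      · rw [← Category.assoc, hα2, β, ← Scheme.Hom.comp_appTop, ← Over.comp_left, hw2]
      · rw [← Category.assoc, hκs, Category.assoc, res, ← Scheme.Hom.comp_appTop, ← Over.comp_left, hw3, ev_comp,
          hevz]
    have htr : tr F κs κt sq hs (y ≫ z) (y' ≫ π hh p) hn = y' ≫ z := by
      apply hom_ext_Z
      rw [ev_tr F κs κt sq hs _ _ hn c hcc hc2, hd, ← Category.assoc, hκt, Category.assoc, res,
        ← Scheme.Hom.comp_appTop, ← Over.comp_left, hw4, ev_comp, hevz]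
    have hn' : (yon S).map (y ≫ z) ≫ (yon S).map (ν F p) ≫ p.v = (yon S).map (y' ≫ π hh p) ≫ p.v := by
      rw [← Category.assoc, ← (yon S).map_comp, hn]
    have e1 : (yon S).map (tr F κs κt sq hs (y ≫ z) (y' ≫ π hh p) hn) =
        D.tr ⟨⟩ ⟨⟩ ((yon S).map (y ≫ z)) ((yon S).map (y' ≫ π hh p)) hn' := by
      change _ = (yon S).map (tr F κs κt sq hs ((yon S).preimage ((yon S).map (y ≫ z)))
        ((yon S).preimage ((yon S).map (y' ≫ π hh p))) _)
      congr 1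
      exact tr_congr F κs κt sq hs ((yon S).preimage_map _).symm ((yon S).preimage_map _).symm _ _
    rw [← htr, e1]
    exact (K615.Glue.tr_m (D := D) ⟨⟩ ⟨⟩ _ _ hn').symm
  obtain ⟨l, hl⟩ := hj.exists_desc (fun _ => (yon S).map z ≫ K615.Glue.m D ⟨⟩) (by
    intro V _ _ y y' hyy
    obtain ⟨y, rfl⟩ := (yon S).map_surjective y
    obtain ⟨y', rfl⟩ := (yon S).map_surjective y'
    rw [← Category.assoc, ← Category.assoc, ← (yon S).map_comp, ← (yon S).map_comp]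
    exact key V y y' hyy)
  have hl' : ι hh p ≫ l = (yon S).map z ≫ K615.Glue.m D ⟨⟩ := hl ⟨⟩
  have hlf : l ≫ K615.Glue.π D = h := by
    refine hj.ext fun _ => ?_
    rw [← Category.assoc, hl', Category.assoc, K615.Glue.w (D := D) ⟨⟩, ← Category.assoc, ← (yon S).map_comp, hzν,
      (Ch.sq hh p).w]
  refine ⟨l, z, hlf, hzν, rfl, ?_⟩
  refine IsPullback.of_bot (h₃₁ := p.v) (v₂₁ := (yon S).map (ν F p)) (v₂₂ := K615.Glue.π D) ?_ hl'
    (K615.Glue.isPullback (D := D) ⟨⟩)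
  rw [← (yon S).map_comp, hzν, hlf]
  exact Ch.sq hh p

end K594.RelSpec
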